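import Cfsg.Agent.TO.U2.Six
import Cfsg.Agent.TO.L2.Core
import Cfsg.Agent.H198.UnitGamma
import Cfsg.Agent.H95.StemCover
import Cfsg.Agent.LieClassical.HermPerfect
import Cfsg.Agent.S2089
import Cfsg.Agent.S0279

/-!
# S4817, box U2
-/

set_option autoImplicit false
set_option linter.unusedSectionVars false

namespace Cfsg.Agent.TO.U2

open Cfsg Matrix Cfsg.Agent.LieClassical Cfsg.Agent.TO.L2 Cfsg.Agent.ClassicalGeometry
open scoped commutatorElement

/-- homomorphisms of a perfect group which agree modulo the centre -/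
theorem hom_ext {Γ G : Type*} [Group Γ] [Group G] (hΓ : commutator Γ = ⊤) (f g : Γ →* G)
    (h : ∀ x, f x * (g x)⁻¹ ∈ Subgroup.center G) : f = g := by
  have h1 : commutator Γ ≤ f.eqLocus g := by
    rw [commutator_def, Subgroup.commutator_le]
    intro x _ y _
    change f ⁅x, y⁆ = g ⁅x, y⁆
    have hx := Subgroup.mem_center_iff.1 (h x)
    have hy := Subgroup.mem_center_iff.1 (h y)
    have e1 : f x = f x * (g x)⁻¹ * g x := by group
    have e2 : f y = f y * (g y)⁻¹ * g y := by group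
    rw [map_commutatorElement, map_commutatorElement, e1, e2]
    generalize f x * (g x)⁻¹ = z at hx
    generalize f y * (g y)⁻¹ = t at hy
    rw [commutatorElement_def, commutatorElement_def]
    calc z * g x * (t * g y) * (z * g x)⁻¹ * (t * g y)⁻¹
        = z * (g x * (t * g y) * (g x)⁻¹) * z⁻¹ * (t * g y)⁻¹ := by group
      _ = (g x * t) * g y * (g x)⁻¹ * (t * g y)⁻¹ := by rw [← hx]; group
      _ = t * (g x * g y * (g x)⁻¹ * (g y)⁻¹) * t⁻¹ := by rw [hy]; group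
      _ = _ := by rw [← hy]; group
  exact MonoidHom.ext fun x => h1 (hΓ ▸ Subgroup.mem_top x)

theorem psi_mem {F R : Type*} [Field F] [Ring R] [Algebra F R] {a b : R} (T : Subalgebra F R) (ha : a ∈ T)
    (hb : b ∈ T) (y : Matrix (Fin 3) (Fin 3) F) : psi a b y ∈ T := by
  have he : e F a ∈ T := T.smul_mem (add_mem (add_mem (one_mem T) ha) (mul_mem ha ha)) _
  refine sum_mem fun i _ => sum_mem fun j _ => T.smul_mem (mul_mem ?_ ?_) _
  · fin_cases i
    exacts [he, mul_mem hb he, mul_mem (mul_mem hb hb) he]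
  · fin_cases j
    exacts [he, mul_mem he (mul_mem hb hb), mul_mem he hb]

section Star

variable {F : Type} [Field F] [StarRing F] {n : ℕ} {a b : Matrix (Fin n) (Fin n) F} {ω : F}

theorem star_of_cube {a : Matrix (Fin n) (Fin n) F} (h3 : a * a * a = 1) (hu : aᴴ * a = 1) : aᴴ = a * a := by
  calc aᴴ = aᴴ * (a * a * a) := by rw [h3, mul_one]
    _ = a * a := by rw [mul_assoc a, ← mul_assoc, hu, one_mul]

theorem psi_star (h : Hs a b ω) (ua : aᴴ * a = 1) (ub : bᴴ * b = 1) (y : Matrix (Fin 3) (Fin 3) F) :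
    (psi a b y)ᴴ = psi a b yᴴ := by
  have sa := star_of_cube h.aaa ua
  have sb := star_of_cube h.bbb ub
  have se : (e F a)ᴴ = e F a := by
    have h1 : a * a * (a * a) = a := by rw [← mul_assoc, h.aaa, one_mul]
    simp only [e, conjTranspose_smul, conjTranspose_add, conjTranspose_one, conjTranspose_mul, sa, h1, star_inv₀,
      star_ofNat]
    rw [add_right_comm]
  have h2 : b * b * (b * b) = b := by rw [← mul_assoc, h.bbb, one_mul]
  have sV : ∀ i, (V F a b i)ᴴ = U F a b i := fun i => by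
    fin_cases i <;> simp [V, U, conjTranspose_mul, se, sb, h2]
  have sU : ∀ i, (U F a b i)ᴴ = V F a b i := fun i => by rw [← sV, conjTranspose_conjTranspose]
  simp only [psi, conjTranspose_sum, conjTranspose_smul, conjTranspose_mul, sV, sU, conjTranspose_apply]
  exact Finset.sum_comm

theorem star_c (h : IsPrimitiveRoot ω 3) (hs : star ω = ω ^ 2) :
    star (ω - ω ^ 2)⁻¹ * (ω - ω ^ 2)⁻¹ * 3 = 1 := by
  have h1 : star (ω - ω ^ 2) * (ω - ω ^ 2) = 3 := by
    rw [star_sub, star_pow, hs]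
    linear_combination (-3 + 3 * ω - 2 * ω ^ 3 + ω ^ 4) * wsum h
  rw [star_inv₀, ← mul_inv, h1, inv_mul_cancel₀ (three_ne h)]

theorem P1_unit (h : IsPrimitiveRoot ω 3) (hs : star ω = ω ^ 2) :
    ((ω - ω ^ 2)⁻¹ • P1 ω)ᴴ * ((ω - ω ^ 2)⁻¹ • P1 ω) = 1 := by
  have h1 : (P1 ω)ᴴ * P1 ω = (3 : F) • (1 : Matrix (Fin 3) (Fin 3) F) := by
    have := wsum h
    have := w3 h
    ext i j
    fin_cases i <;> fin_cases j <;> simp [P1, mul_apply, Fin.sum_univ_three, hs] <;> grind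
  rw [conjTranspose_smul, smul_mul_assoc, mul_smul_comm, h1, smul_smul, smul_smul, star_c h hs, one_smul]

theorem P2_unit (h : IsPrimitiveRoot ω 3) (hs : star ω = ω ^ 2) :
    ((ω - ω ^ 2)⁻¹ • P2 ω)ᴴ * ((ω - ω ^ 2)⁻¹ • P2 ω) = 1 := by
  have h1 : (P2 ω)ᴴ * P2 ω = (3 : F) • (1 : Matrix (Fin 3) (Fin 3) F) := by
    have := wsum h
    have := w3 h
    ext i j
    fin_cases i <;> fin_cases j <;> simp [P2, mul_apply, Fin.sum_univ_three, hs] <;> grind
  rw [conjTranspose_smul, smul_mul_assoc, mul_smul_comm, h1, smul_smul, smul_smul, star_c h hs, one_smul]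

omit [StarRing F] in
theorem P1_four (h : IsPrimitiveRoot ω 3) : P1 ω ^ 4 = (9 : F) • (1 : Matrix (Fin 3) (Fin 3) F) := by
  have h1 : P1 ω * P1 ω = (3 : F) • !![1, 0, 0; 0, 0, 1; 0, 1, 0] := by
    have := wsum h
    have := w3 h
    ext i j
    fin_cases i <;> fin_cases j <;> simp [P1, mul_apply, Fin.sum_univ_three] <;> grind
  rw [show P1 ω ^ 4 = P1 ω * P1 ω * (P1 ω * P1 ω) by noncomm_ring, h1]
  ext i j
  fin_cases i <;> fin_cases j <;> simp [mul_apply, Fin.sum_univ_three] <;> norm_num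

omit [StarRing F] in
theorem P2_four (h : IsPrimitiveRoot ω 3) : P2 ω ^ 4 = (9 : F) • (1 : Matrix (Fin 3) (Fin 3) F) := by
  have := wsum h
  have := w3 h
  have h1 : P2 ω * P2 ω = (3 : F) • !![1, 0, 0; 0, 0, ω ^ 2; 0, ω, 0] := by
    ext i j
    fin_cases i <;> fin_cases j <;> simp [P2, mul_apply, Fin.sum_univ_three] <;> grind
  rw [show P2 ω ^ 4 = P2 ω * P2 ω * (P2 ω * P2 ω) by noncomm_ring, h1]
  ext i j
  fin_cases i <;> fin_cases j <;> simp [mul_apply, Fin.sum_univ_three] <;> grind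

end Star

variable {F : Type} [Field F] [Fintype F] {n q : ℕ}

theorem mg (hF : Fintype.card F = q ^ 2) (hn : 3 ≤ n) :
    MG F (mt : SU n F q →* Matrix (Fin n) (Fin n) F) (QuotientGroup.mk' (Subgroup.center (SU n F q))) :=
  ⟨mt_inj, QuotientGroup.mk'_surjective _, fun g => QuotientGroup.eq_one_iff g, fun _ hg => smul_of_center hF hn hg⟩

/-- `SU` covers the perfect central extensions of `PSU` -/
theorem exists_rho (hF : Fintype.card F = q ^ 2) (hn : 3 ≤ n) (h32 : ¬ (n = 3 ∧ q = 2))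
    (hexc : (n, q) ∉ ({(4, 2), (4, 3), (6, 2)} : Set (ℕ × ℕ))) {G : Type} [Group G] [Finite G]
    (hG : commutator G = ⊤) (σ : G →* PSU n F q) (hσ : Function.Surjective σ) (hc : σ.ker ≤ Subgroup.center G) :
    ∃ ρ : SU n F q →* G, ∀ x, σ (ρ x) = QuotientGroup.mk' _ x := by
  have hperf := HermPerfect.commutator_SU_eq_top hF hn h32
  have hS : commutator (PSU n F q) = ⊤ := by
    have h1 : (commutator G).map σ = ⁅σ.range, σ.range⁆ := map_commutator_eq G σ
    rw [hG, ← MonoidHom.range_eq_map, MonoidHom.range_eq_top.2 hσ] at h1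
    rw [commutator_def]
    exact h1.symm
  have : NeZero (Nat.gcd n (q + 1)) := ⟨Nat.gcd_ne_zero_left (by omega)⟩
  obtain ⟨ρ, -, h⟩ := H95.StemCover.exists_cover' hS (S2089.result n q hF hn h32 hexc) (QuotientGroup.mk' _)
    (H95.StemCover.isStem hperf (QuotientGroup.mk'_surjective _) (QuotientGroup.ker_mk' _).le)
    (by rw [QuotientGroup.ker_mk', S0279.result hF n hn, Nat.card_congr Multiplicative.toAdd, Nat.card_zmod])
    hG σ hσ hc
  exact ⟨ρ, h⟩

/-- the semilinear automorphisms which preserve the pair preserve the algebra -/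
theorem semi_alg [NeZero n] {a b : SU n F q} {ω : F} (h : Hs (mt a) (mt b) ω) (A : GU n F q) (τ : F ≃+* F)
    (ha : PSUAutCount.semiConj A τ a ∈ Alg h) (hb : PSUAutCount.semiConj A τ b ∈ Alg h) {x : SU n F q}
    (hx : x ∈ Alg h) : PSUAutCount.semiConj A τ x ∈ Alg h := by
  let φ : Matrix (Fin n) (Fin n) F →+* Matrix (Fin n) (Fin n) F :=
    { toFun := fun y => PSUAutCount.gm A * y.map τ * PSUAutCount.gm A⁻¹
      map_one' := by rw [Matrix.map_one _ (map_zero τ) (map_one τ), mul_one, PSUAutCount.gm_mul_inv]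
      map_mul' := fun y z => by
        rw [Matrix.map_mul]
        simp only [mul_assoc]
        rw [← mul_assoc (PSUAutCount.gm A⁻¹), PSUAutCount.gm_inv_mul, one_mul]
      map_zero' := by rw [Matrix.map_zero _ (map_zero τ), mul_zero, zero_mul]
      map_add' := fun y z => by rw [Matrix.map_add _ (map_add τ), mul_add, add_mul] }
  have hφ : ∀ g : SU n F q, mt (PSUAutCount.semiConj A τ g) = φ (mt g) := fun _ => rfl
  let T : Subalgebra F (Matrix (Fin n) (Fin n) F) :=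
    { h.psiH.range.toSubsemiring.comap φ with
      algebraMap_mem' := fun s => by
        change PSUAutCount.gm A * (algebraMap F (Matrix (Fin n) (Fin n) F) s).map τ * PSUAutCount.gm A⁻¹ ∈
          h.psiH.range
        have h1 : (algebraMap F (Matrix (Fin n) (Fin n) F) s).map τ = τ s • (1 : Matrix (Fin n) (Fin n) F) := by
          ext i j
          simp [algebraMap_matrix_apply, one_apply, apply_ite τ]
        rw [h1, mul_smul_comm, smul_mul_assoc, mul_one, PSUAutCount.gm_mul_inv]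
        exact Subalgebra.smul_mem _ (one_mem _) _ }
  have hT : ∀ g : SU n F q, mt g ∈ T ↔ PSUAutCount.semiConj A τ g ∈ Alg h := fun g =>
    ⟨fun ⟨y, hy⟩ => ⟨y, hy.symm⟩, fun ⟨y, hy⟩ => ⟨y, hy.symm⟩⟩
  obtain ⟨y, hy⟩ := hx
  exact (hT x).1 (hy ▸ psi_mem T ((hT a).2 ha) ((hT b).2 hb) y)

/-- the automorphisms of `G` which fix `D` lift to automorphisms of `SU` which fix the algebra -/
theorem exists_lift [NeZero n] (hF : Fintype.card F = q ^ 2) (hn : 3 ≤ n) (h32 : ¬ (n = 3 ∧ q = 2))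
    {G : Type} [Group G] {σ : G →* PSU n F q} (hσ : Function.Surjective σ) (hk : σ.ker = Subgroup.center G)
    {ρ : SU n F q →* G} (hρ : ∀ x, σ (ρ x) = QuotientGroup.mk' _ x) {a b : SU n F q} {ω : F}
    (h : Hs (mt a) (mt b) ω) {D : Subgroup G}
    (hQ : D.map σ = Subgroup.closure {(QuotientGroup.mk a : PSU n F q), QuotientGroup.mk b}) (α : MulAut G)
    (hα : ∀ x, α x ∈ D ↔ x ∈ D) :
    ∃ Ψ : SU n F q →* SU n F q, (∀ x, α (ρ x) = ρ (Ψ x)) ∧ (Alg h).map Ψ ≤ Alg h := by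
  obtain ⟨β, hβ⟩ := exists_ind hσ (α := α) (fun g hg => hk ▸ aut_center α (hk ▸ hg))
    (fun g hg => hk ▸ aut_center α⁻¹ (hk ▸ hg))
  obtain ⟨A, τ, rfl⟩ := PSUAutMain.exists_toAut hF hn h32 β
  have key : ∀ x : SU n F q, (QuotientGroup.mk x : PSU n F q) ∈ D.map σ → PSUAutCount.semiConj A τ x ∈ Alg h := by
    rintro x ⟨d, hd, hx⟩
    have h1 : (QuotientGroup.mk (PSUAutCount.semiConj A τ x) : PSU n F q) ∈ D.map σ :=
      ⟨α d, (hα d).2 hd, by rw [hβ, hx]; rfl⟩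
    obtain ⟨y, hy⟩ := mt_mem_of_mk_mem hF hn h.psiH.range ⟨_, h.psi_mA⟩ ⟨_, h.psi_mB⟩ (hQ ▸ h1)
    exact ⟨y, hy.symm⟩
  refine ⟨(PSUAutCount.semiConj A τ).toMonoidHom, fun x => DFunLike.congr_fun
    (hom_ext (HermPerfect.commutator_SU_eq_top hF hn h32) (α.toMonoidHom.comp ρ)
      (ρ.comp (PSUAutCount.semiConj A τ).toMonoidHom) fun x => ?_) x, ?_⟩
  · rw [← hk, MonoidHom.mem_ker, map_mul, map_inv, mul_inv_eq_one]
    change σ (α (ρ x)) = σ (ρ (PSUAutCount.semiConj A τ x))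
    rw [hβ, hρ, hρ]
    rfl
  · rintro _ ⟨x, hx, rfl⟩
    exact semi_alg h A τ (key a (hQ ▸ Subgroup.subset_closure (by simp)))
      (key b (hQ ▸ Subgroup.subset_closure (by simp))) hx

/-- the embedding of `SU₃` -/
theorem exists_emb [NeZero n] [StarRing F] (hs : ∀ x : F, star x = x ^ q) (hF : Fintype.card F = q ^ 2) (hq : q ≠ 2)
    {a b : SU n F q} {ω : F} (h : Hs (mt a) (mt b) ω) {y : Matrix (Fin 3) (Fin 3) F} (hd : y.det = 1)
    (hu : yᴴ * y = 1) : ∃ g ∈ ⁅Alg h, Alg h⁆, mt g = psi (mt a) (mt b) y := by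
  have hperf := HermPerfect.commutator_SU_eq_top hF le_rfl (fun h => hq h.2)
  let f : SU 3 F q →* Matrix (Fin n) (Fin n) F := (h.psiH : Matrix (Fin 3) (Fin 3) F →* _).comp mt
  have hf : ∀ x, f x = psi (mt a) (mt b) (mt x) := fun _ => rfl
  have hdet : ∀ x, (f x).det = 1 := fun x => by
    have h1 := Abelianization.commutator_subset_ker ((detMonoidHom.comp f).toHomUnits) (hperf ▸ Subgroup.mem_top x)
    exact congrArg Units.val (MonoidHom.mem_ker.1 h1)
  let ι : SU 3 F q →* SU n F q :=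
    { toFun := fun x => mkSU hs (f x) (hdet x) (by
        rw [hf, psi_star h (star_mul_mt hs a) (star_mul_mt hs b), ← h.psi_mul, star_mul_mt hs, h.psi_one])
      map_one' := mt_inj (by rw [mt_mkSU, map_one, map_one])
      map_mul' := fun x y => mt_inj (map_mul f x y) }
  have h1 : (⊤ : Subgroup (SU 3 F q)).map ι ≤ Alg h := by
    rintro _ ⟨x, -, rfl⟩
    exact ⟨mt x, rfl⟩
  refine ⟨ι (mkSU hs y hd hu), Subgroup.commutator_mono h1 h1 ?_, rfl⟩
  rw [← Subgroup.map_commutator, ← commutator_def, hperf]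
  exact ⟨_, Subgroup.mem_top _, rfl⟩

theorem exists_four [NeZero n] [StarRing F] (hs : ∀ x : F, star x = x ^ q) (h3 : ∀ s : F, s ≠ 0 → s ^ 3 = 1)
    {a b : SU n F q} {ω : F} (h : Hs (mt a) (mt b) ω) {y : Matrix (Fin 3) (Fin 3) F} (h4 : y ^ 4 = 1)
    (hu : yᴴ * y = 1) : ∃ g ∈ Alg h, mt g = psi (mt a) (mt b) y := by
  have h1 : (psi (mt a) (mt b) y).det ^ 4 = 1 := by
    rw [← det_pow, ← h.psiH_apply, ← map_pow, h4, map_one, det_one]
  have h2 : (psi (mt a) (mt b) y).det = 1 := by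
    have h0 : (psi (mt a) (mt b) y).det ≠ 0 := fun hz => by simp [hz] at h1
    rwa [pow_succ, h3 _ h0, one_mul] at h1
  exact ⟨mkSU hs _ h2 (by rw [psi_star h (star_mul_mt hs a) (star_mul_mt hs b), ← h.psi_mul, hu, h.psi_one]),
    ⟨y, rfl⟩, rfl⟩

/-- **[U2]** -/
theorem boxU2 (B : Blk) : BoxU2 := by
  intro F _ _ n q hF hn h32 G _ _ σ M bl D H hS
  have : Fact (Nat.Prime 3) := ⟨Nat.prime_three⟩
  by_cases h62 : n = 6 ∧ q = 2
  · obtain ⟨rfl, rfl⟩ := h62
    exact not_surv_six hF (B.pure G 3 M bl D _ σ H) hS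
  obtain ⟨a, b, ω, hH, -, ⟨k, hk⟩, -, hQ⟩ := hS
  have : NeZero n := ⟨by omega⟩
  have h : Hs (mt a) (mt b) ω := hs_of_heis hH
  have h3n : 3 ∣ n := by
    have h1 := congrArg det h.comm
    rw [det_smul, det_mul, det_mul, det_mt, det_mt, Fintype.card_fin] at h1
    exact hH.prim.dvd_of_pow_eq_one n (by simpa using h1.symm)
  obtain ⟨ρ, hρ⟩ := exists_rho hF hn h32 (by
    simp only [Set.mem_insert_iff, Set.mem_singleton_iff, Prod.mk.injEq]
    omega) H.perf σ H.surj H.ker.le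
  let _ := starR hF
  have hs : ∀ x : F, star x = x ^ q := fun _ => rfl
  have hω : star ω = ω ^ 2 := by
    apply mul_right_cancel₀ (w0 hH.prim)
    rw [hs, ← pow_succ, ← pow_succ, hk, pow_mul, w3 hH.prim, one_pow]
  have hl := exists_lift hF hn h32 H.surj H.ker hρ h hQ
  by_cases hq : q = 2
  · subst hq
    have h3 : ∀ s : F, s ≠ 0 → s ^ 3 = 1 := fun x hx => by
      simpa [hF] using FiniteField.pow_card_sub_one_eq_one x hx
    have hc : ((ω - ω ^ 2)⁻¹) ^ 4 * 9 = 1 := by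
      have h1 : (ω - ω ^ 2) ^ 4 = 9 := by
        have := wsum hH.prim
        grind
      rw [inv_pow, ← h1, inv_mul_cancel₀ (pow_ne_zero _ (wsub hH.prim))]
    obtain ⟨g₁, k1, h1⟩ := exists_four hs h3 h (by rw [smul_pow, P1_four hH.prim, smul_smul, hc, one_smul])
      (P1_unit hH.prim hω)
    obtain ⟨g₂, k2, h2⟩ := exists_four hs h3 h (by rw [smul_pow, P2_four hH.prim, smul_smul, hc, one_smul])
      (P2_unit hH.prim hω)
    refine MG.core B H (mg hF hn) h hQ ρ hρ ((Alg h).map ρ) ?_ ?_ h1 h2 ⟨g₁, k1, rfl⟩ ⟨g₂, k2, rfl⟩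
    · rintro α hα _ ⟨x, hx, rfl⟩
      obtain ⟨Ψ, e, hΨ⟩ := hl α hα
      exact ⟨Ψ x, hΨ ⟨x, hx, rfl⟩, (e x).symm⟩
    · rintro _ ⟨g, ⟨y, hy⟩, rfl⟩
      obtain ⟨y', hy'⟩ := (Alg h).inv_mem ⟨y, hy⟩
      exact ⟨g, y, 1, rfl, hy, h3 _ (left_ne_zero_of_mul_eq_one (det_inv h hy hy'))⟩
  · obtain ⟨g₁, k1, h1⟩ := exists_emb hs hF hq h (det_P1 hH.prim) (P1_unit hH.prim hω)
    obtain ⟨g₂, k2, h2⟩ := exists_emb hs hF hq h (det_P2 hH.prim) (P2_unit hH.prim hω)
    refine MG.core B H (mg hF hn) h hQ ρ hρ (⁅Alg h, Alg h⁆.map ρ) ?_ ?_ h1 h2 ⟨g₁, k1, rfl⟩ ⟨g₂, k2, rfl⟩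
    · rintro α hα _ ⟨x, hx, rfl⟩
      obtain ⟨Ψ, e, hΨ⟩ := hl α hα
      have h3 := Subgroup.commutator_mono hΨ hΨ
      rw [← Subgroup.map_commutator] at h3
      exact ⟨Ψ x, h3 ⟨x, hx, rfl⟩, (e x).symm⟩
    · rintro _ ⟨g, hg, rfl⟩
      obtain ⟨y, hy, hd⟩ := comm_le_Alg1 h hg
      exact ⟨g, y, 0, rfl, hy, by rw [hd, one_pow]⟩

end Cfsg.Agent.TO.U2
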