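import Cfsg.Agent.TO.U2.Star
import Cfsg.Agent.BHZ.Nil.Heis

/-!
# S4817, box U2: the group `U₆(2)`

The centralizer of the Heisenberg group is `GU₂(2)`, which has a normal Sylow `3`-subgroup.
-/

set_option autoImplicit false
set_option linter.unusedSectionVars false

namespace Cfsg.Agent.TO.U2

open Cfsg Matrix Cfsg.Agent.LieClassical

variable {F : Type} [Field F] [StarRing F] {n : ℕ}

/-- the standard diagonal matrix -/
def dA (ω : F) : Matrix (Fin 3) (Fin 3) F := !![1, 0, 0; 0, ω, 0; 0, 0, ω ^ 2]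

/-- the standard permutation matrix -/
def dB (F : Type) [Field F] : Matrix (Fin 3) (Fin 3) F := !![0, 0, 1; 1, 0, 0; 0, 1, 0]

/-- the intertwiners -/
structure Itw (a b : Matrix (Fin n) (Fin n) F) (ω : F) (P : Matrix (Fin n) (Fin 3) F) : Prop where
  ha : a * P = P * dA ω
  hb : b * P = P * dB F

theorem scalar_of_comm {ω : F} (hω : IsPrimitiveRoot ω 3) {X : Matrix (Fin 3) (Fin 3) F}
    (hA : dA ω * X = X * dA ω) (hB : dB F * X = X * dB F) : X = X 0 0 • (1 : Matrix (Fin 3) (Fin 3) F) := by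
  have h1 : ω - 1 ≠ 0 := sub_ne_zero.2 (hω.ne_one (by norm_num))
  have hA' := fun i j => congrFun (congrFun hA i) j
  have hB' := fun i j => congrFun (congrFun hB i) j
  simp only [dA, dB, mul_apply, Fin.sum_univ_three, Fin.forall_fin_succ] at hA' hB'
  simp at hA' hB'
  have e1 : X 1 0 = 0 := by
    have := hA'.2.1.1
    apply mul_left_cancel₀ h1
    linear_combination this
  have e2 : X 0 1 = 0 := by
    have := hA'.1.1
    apply mul_left_cancel₀ h1
    linear_combination -this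
  obtain ⟨⟨b1, b2, b3⟩, ⟨b4, b5, b6⟩, b7, b8, b9⟩ := hB'
  ext i j
  fin_cases i <;> fin_cases j <;> simp <;> grind

theorem dB_unit : dB F * (dB F)ᴴ = 1 := by
  ext i j
  fin_cases i <;> fin_cases j <;> simp [dB, mul_apply, Fin.sum_univ_three]

theorem dA_unit {ω : F} (h : ω * star ω = 1) : dA ω * (dA ω)ᴴ = 1 := by
  ext i j
  fin_cases i <;> fin_cases j <;> simp [dA, mul_apply, Fin.sum_univ_three, h, ← mul_pow]

theorem adj_itw {g : Matrix (Fin n) (Fin n) F} {G : Matrix (Fin 3) (Fin 3) F} {P : Matrix (Fin n) (Fin 3) F}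
    (h : g * P = P * G) (hg : gᴴ * g = 1) (hG : G * Gᴴ = 1) : Pᴴ * g = G * Pᴴ := by
  have h1 : gᴴ * P = P * Gᴴ := by
    calc gᴴ * P = gᴴ * (P * G) * Gᴴ := by rw [Matrix.mul_assoc, Matrix.mul_assoc, hG, Matrix.mul_one]
      _ = P * Gᴴ := by rw [← h, ← Matrix.mul_assoc, hg, Matrix.one_mul]
  simpa using congrArg conjTranspose h1

/-- a unitary Heisenberg pair -/
structure UH (a b : Matrix (Fin n) (Fin n) F) (ω : F) : Prop extends Heis3 a b ω where
  ua : aᴴ * a = 1
  ub : bᴴ * b = 1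
  uω : ω * star ω = 1

variable {a b : Matrix (Fin n) (Fin n) F} {ω : F}

theorem UH.inner (h : UH a b ω) {P P' : Matrix (Fin n) (Fin 3) F} (hP : Itw a b ω P) (hP' : Itw a b ω P') :
    ∃ c : F, P'ᴴ * P = c • (1 : Matrix (Fin 3) (Fin 3) F) := by
  refine ⟨_, scalar_of_comm h.prim ?_ ?_⟩
  · rw [← Matrix.mul_assoc, ← adj_itw hP'.ha h.ua (dA_unit h.uω), Matrix.mul_assoc, hP.ha, Matrix.mul_assoc]
  · rw [← Matrix.mul_assoc, ← adj_itw hP'.hb h.ub dB_unit, Matrix.mul_assoc, hP.hb, Matrix.mul_assoc]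

theorem UH.outer (h : UH a b ω) {P P' : Matrix (Fin n) (Fin 3) F} (hP : Itw a b ω P) (hP' : Itw a b ω P') :
    a * (P * P'ᴴ) = P * P'ᴴ * a ∧ b * (P * P'ᴴ) = P * P'ᴴ * b := by
  constructor
  · rw [Matrix.mul_assoc P, adj_itw hP'.ha h.ua (dA_unit h.uω), ← Matrix.mul_assoc, hP.ha, Matrix.mul_assoc]
  · rw [Matrix.mul_assoc P, adj_itw hP'.hb h.ub dB_unit, ← Matrix.mul_assoc, hP.hb, Matrix.mul_assoc]

omit [StarRing F] in
theorem Itw.mul {P : Matrix (Fin n) (Fin 3) F} (hP : Itw a b ω P) {k : Matrix (Fin n) (Fin n) F}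
    (ha : a * k = k * a) (hb : b * k = k * b) : Itw a b ω (k * P) :=
  ⟨by rw [← Matrix.mul_assoc, ha, Matrix.mul_assoc, hP.ha, Matrix.mul_assoc],
    by rw [← Matrix.mul_assoc, hb, Matrix.mul_assoc, hP.hb, Matrix.mul_assoc]⟩

/-- the matrix with the columns `v, b v, b² v` -/
def cols (b : Matrix (Fin n) (Fin n) F) (v : Fin n → F) : Matrix (Fin n) (Fin 3) F :=
  Matrix.of fun r i => ![v, b *ᵥ v, b *ᵥ b *ᵥ v] i r

omit [StarRing F] in
theorem mul_cols (k b : Matrix (Fin n) (Fin n) F) (v : Fin n → F) (r : Fin n) (i : Fin 3) :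
    (k * cols b v) r i = (k *ᵥ ![v, b *ᵥ v, b *ᵥ b *ᵥ v] i) r := rfl

omit [StarRing F] in
theorem itw_cols (h : Heis3 a b ω) {v : Fin n → F} (hv : a *ᵥ v = v) : Itw a b ω (cols b v) := by
  have h1 : ∀ w, a *ᵥ b *ᵥ w = ω • b *ᵥ a *ᵥ w := fun w => by
    rw [mulVec_mulVec, mulVec_mulVec, h.comm, smul_mulVec]
  have h2 : b *ᵥ b *ᵥ b *ᵥ v = v := by
    rw [mulVec_mulVec, mulVec_mulVec, ← pow_two, ← pow_succ, h.b3, one_mulVec]
  constructor
  · ext r i
    rw [mul_cols]
    fin_cases i <;> simp [-mulVec_mulVec, cols, dA, mul_apply, Fin.sum_univ_three, h1, hv, mulVec_smul] <;> ring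
  · ext r i
    rw [mul_cols]
    fin_cases i <;> simp [-mulVec_mulVec, cols, dB, mul_apply, Fin.sum_univ_three, h2]

omit [StarRing F] in
theorem mul_cols_eq {f : Matrix (Fin n) (Fin n) F} (hb : b * f = f * b) {v : Fin n → F} (hv : f *ᵥ v = v) :
    f * cols b v = cols b v := by
  have h1 : ∀ w, f *ᵥ b *ᵥ w = b *ᵥ f *ᵥ w := fun w => by rw [mulVec_mulVec, mulVec_mulVec, hb]
  ext r i
  rw [mul_cols]
  fin_cases i <;> simp [-mulVec_mulVec, cols, h1, hv]

/-- the field with four elements -/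
structure F4 (F : Type) [Field F] [StarRing F] : Prop where
  two : (2 : F) = 0
  cube : ∀ x : F, x ≠ 0 → x ^ 3 = 1
  st : ∀ x : F, star x = x ^ 2

theorem F4.norm (h : F4 F) {x : F} (hx : x ≠ 0) : star x * x = 1 := by
  rw [h.st, ← pow_succ, h.cube x hx]

theorem F4.fix (h : F4 F) {x : F} (hx : x ≠ 0) (hs : star x = x) : x = 1 := by
  rw [h.st] at hs
  apply mul_left_cancel₀ hx
  rw [mul_one, ← pow_two, hs]

/-- a nonzero self-adjoint idempotent has a nonisotropic vector -/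
theorem exists_noniso (h4 : F4 F) (hω : IsPrimitiveRoot ω 3) {g : Matrix (Fin n) (Fin n) F} (hg : g * g = g)
    (hs : gᴴ = g) (h0 : g ≠ 0) : ∃ w, g *ᵥ w = w ∧ w ⬝ᵥ star w = 1 := by
  by_contra hc
  push Not at hc
  have h1 : ∀ u, (g *ᵥ u) ⬝ᵥ star u = 0 := fun u => by
    by_contra hne
    have e : (g *ᵥ u) ⬝ᵥ star (g *ᵥ u) = (g *ᵥ u) ⬝ᵥ star u := by rw [dot_adj, hs, mulVec_mulVec, hg]
    refine hc (g *ᵥ u) (by rw [mulVec_mulVec, hg]) (h4.fix (e ▸ hne) ?_)
    simp [dotProduct, mul_comm]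
  refine h0 (eq_of_dot fun u v => ?_)
  have h2 := h1 (u + v)
  have h3 := h1 (ω • u + v)
  simp only [mulVec_add, star_add, add_dotProduct, dotProduct_add, h1, mulVec_smul, star_smul, smul_dotProduct,
    dotProduct_smul, smul_eq_mul, h4.st ω] at h2 h3
  have h5 : ω ^ 2 + ω + 1 = 0 := by
    have := hω.geom_sum_eq_zero (by norm_num)
    simp only [Finset.sum_range_succ, Finset.sum_range_zero] at this
    linear_combination this
  rw [zero_mulVec, zero_dotProduct]
  linear_combination h3 - ω ^ 2 * h2 + ((g *ᵥ u) ⬝ᵥ star v) * h5 - ω * ((g *ᵥ u) ⬝ᵥ star v) * h4.two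

theorem UH.step (h : UH a b ω) (h4 : F4 F) {f : Matrix (Fin n) (Fin n) F} (hf : f * f = f) (hs : fᴴ = f)
    (h0 : f ≠ 0) (ha : a * f = f * a) (hb : b * f = f * b) :
    ∃ P, Itw a b ω P ∧ Pᴴ * P = 1 ∧ f * P = P := by
  have a3 : a * (a * a) = 1 := by rw [← h.a3, pow_succ', pow_two]
  have b3 : b * (b * b) = 1 := by rw [← h.b3, pow_succ', pow_two]
  have a3' : ∀ x, a * (a * (a * x)) = x := fun x => by rw [← mul_assoc a a, ← mul_assoc, mul_assoc a a a, a3, one_mul]
  have b3' : ∀ x, b * (b * (b * x)) = x := fun x => by rw [← mul_assoc b b, ← mul_assoc, mul_assoc b b b, b3, one_mul]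
  have w3 : ω ^ 3 = 1 := h.prim.pow_eq_one
  have h5 : ω ^ 2 + ω + 1 = 0 := by
    have := h.prim.geom_sum_eq_zero (by norm_num)
    simp only [Finset.sum_range_succ, Finset.sum_range_zero] at this
    linear_combination this
  have ab' : ∀ x, a * (b * x) = ω • (b * (a * x)) := fun x => by
    rw [← mul_assoc, h.comm, smul_mul_assoc, mul_assoc]
  have sa : aᴴ = a * a := by
    calc aᴴ = aᴴ * (a * (a * a)) := by rw [a3, mul_one]
      _ = a * a := by rw [← mul_assoc, h.ua, one_mul]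
  set e : Matrix (Fin n) (Fin n) F := 1 + a + a * a with he
  have ae : a * e = e := by simp only [he, mul_add, mul_one, a3]; abel
  have ee : e * e = e := by
    have : e * e = (3 : F) • e := by
      conv_lhs => rw [he, add_mul, add_mul, ← he, one_mul, mul_assoc, ae, ae]
      module
    rw [this, show (3 : F) = 1 by linear_combination h4.two, one_smul]
  have se : eᴴ = e := by
    simp only [he, conjTranspose_add, conjTranspose_one, conjTranspose_mul, sa, mul_assoc, a3']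
    abel
  have ef : e * f = f * e := by
    have hc : Commute a f := ha
    exact (((Commute.one_left f).add_left hc).add_left (hc.mul_left hc)).eq
  have hsum : e + b * e * (b * b) + b * b * e * b = 1 := by
    simp only [he, mul_add, add_mul, mul_one, mul_assoc, ab', h.comm, mul_smul_comm, b3, b3', smul_smul]
    match_scalars
    · linear_combination h4.two
    · linear_combination h5
    · linear_combination h5 + ω * w3
  have hg0 : e * f ≠ 0 := fun hz => h0 (by
    have hb2 : b * b * f = f * (b * b) := by rw [mul_assoc, hb, ← mul_assoc, hb, mul_assoc]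
    calc f = (e + b * e * (b * b) + b * b * e * b) * f := by rw [hsum, one_mul]
      _ = e * f + b * (e * f) * (b * b) + b * b * (e * f) * b := by
        rw [add_mul, add_mul, mul_assoc (b * e), hb2, mul_assoc (b * b * e), hb]
        simp only [mul_assoc]
      _ = 0 := by simp [hz])
  obtain ⟨w, hw, hw1⟩ := exists_noniso h4 h.prim (g := e * f)
    (by rw [mul_assoc, ← mul_assoc f, ← ef, mul_assoc, hf, ← mul_assoc, ee])
    (by rw [conjTranspose_mul, se, hs, ef]) hg0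
  have haw : a *ᵥ w = w := by rw [← hw, mulVec_mulVec, ← mul_assoc, ae]
  have hfw : f *ᵥ w = w := by rw [← hw, mulVec_mulVec, ef, ← mul_assoc, hf]
  have hP := itw_cols h.toHeis3 haw
  refine ⟨_, hP, ?_, mul_cols_eq hb hfw⟩
  obtain ⟨c, hc⟩ := h.inner hP hP
  have h6 : ((cols b w)ᴴ * cols b w) 0 0 = w ⬝ᵥ star w := by
    simp [cols, mul_apply, dotProduct, mul_comm]
  rw [hc, hw1] at h6
  rw [hc, show c = 1 by simpa using h6, one_smul]

theorem UH.basis {a b : Matrix (Fin 6) (Fin 6) F} (h : UH a b ω) (h4 : F4 F) :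
    ∃ P₁ P₂, Itw a b ω P₁ ∧ Itw a b ω P₂ ∧ P₁ᴴ * P₁ = 1 ∧ P₂ᴴ * P₂ = 1 ∧ P₁ᴴ * P₂ = 0 ∧ P₂ᴴ * P₁ = 0 ∧
      P₁ * P₁ᴴ + P₂ * P₂ᴴ = 1 := by
  obtain ⟨P, hP, h1, -⟩ := h.step h4 (f := 1) (one_mul _) conjTranspose_one one_ne_zero (by simp) (by simp)
  have hpp : P * Pᴴ * (P * Pᴴ) = P * Pᴴ := by
    rw [Matrix.mul_assoc, ← Matrix.mul_assoc Pᴴ, h1, Matrix.one_mul]
  obtain ⟨R, hR, h2, h3⟩ := h.step h4 (f := 1 - P * Pᴴ)
    (by rw [sub_mul, mul_sub, mul_sub, hpp]; simp) (by simp) (fun hz => by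
      have h4 := rank_mul_le_left P Pᴴ
      have h5 := rank_le_width P
      rw [← sub_eq_zero.1 hz, rank_one, Fintype.card_fin] at h4
      omega)
    (by rw [mul_sub, sub_mul, (h.outer hP hP).1]; simp) (by rw [mul_sub, sub_mul, (h.outer hP hP).2]; simp)
  have h5 : Pᴴ * R = 0 := by
    rw [← h3, ← Matrix.mul_assoc, Matrix.mul_sub, ← Matrix.mul_assoc, h1]
    simp
  have h6 : Rᴴ * P = 0 := by simpa using congrArg conjTranspose h5
  refine ⟨P, R, hP, hR, h1, h2, h5, h6, ?_⟩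
  rw [← fromCols_mul_fromRows, fromCols_mul_fromRows_eq_one_comm (finSumFinEquiv (m := 3) (n := 3)).symm,
    fromRows_mul_fromCols, h1, h2, h5, h6, fromBlocks_one]

/-- an orthonormal basis of the intertwiners -/
structure Bas (a b : Matrix (Fin n) (Fin n) F) (ω : F) (P R : Matrix (Fin n) (Fin 3) F) : Prop where
  hP : Itw a b ω P
  hR : Itw a b ω R
  pp : Pᴴ * P = 1
  rr : Rᴴ * R = 1
  pr : Pᴴ * R = 0
  rp : Rᴴ * P = 0
  tot : P * Pᴴ + R * Rᴴ = 1

/-- the diagonal elements -/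
def dg (P R : Matrix (Fin n) (Fin 3) F) (s t : F) : Matrix (Fin n) (Fin n) F := s • (P * Pᴴ) + t • (R * Rᴴ)

namespace Bas

variable {P R : Matrix (Fin n) (Fin 3) F}

theorem dg_P (h : Bas a b ω P R) (s t : F) : dg P R s t * P = s • P := by
  simp [dg, Matrix.add_mul, Matrix.mul_assoc, h.pp, h.rp]

theorem dg_R (h : Bas a b ω P R) (s t : F) : dg P R s t * R = t • R := by
  simp [dg, Matrix.add_mul, Matrix.mul_assoc, h.rr, h.pr]

theorem ext (h : Bas a b ω P R) {k k' : Matrix (Fin n) (Fin n) F} (h1 : k * P = k' * P) (h2 : k * R = k' * R) :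
    k = k' := by
  rw [← mul_one k, ← mul_one k', ← h.tot, mul_add, mul_add]
  simp only [← Matrix.mul_assoc, h1, h2]

theorem dg_mul (h : Bas a b ω P R) (s t s' t' : F) : dg P R s t * dg P R s' t' = dg P R (s * s') (t * t') :=
  h.ext (by rw [Matrix.mul_assoc, h.dg_P, h.dg_P, Matrix.mul_smul, h.dg_P, smul_smul, mul_comm])
    (by rw [Matrix.mul_assoc, h.dg_R, h.dg_R, Matrix.mul_smul, h.dg_R, smul_smul, mul_comm])

theorem dg_one (h : Bas a b ω P R) : dg P R 1 1 = 1 := by rw [dg, one_smul, one_smul, h.tot]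

theorem dg_pow (h : Bas a b ω P R) (s t : F) (m : ℕ) : dg P R s t ^ m = dg P R (s ^ m) (t ^ m) := by
  induction m with
  | zero => simp [h.dg_one]
  | succ m ih => rw [pow_succ, ih, h.dg_mul, pow_succ, pow_succ]

theorem dg_star (s t : F) : (dg P R s t)ᴴ = dg P R (star s) (star t) := by
  simp [dg, conjTranspose_smul]

theorem det_dg (h : Bas a b ω P R) (s : F) : (dg P R s 1).det = s ^ 3 := by
  have h1 : dg P R s 1 = 1 + ((s - 1) • P) * Pᴴ := by
    rw [← h.tot, dg, Matrix.smul_mul]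
    module
  have h2 : 1 + Pᴴ * ((s - 1) • P) = s • (1 : Matrix (Fin 3) (Fin 3) F) := by
    rw [Matrix.mul_smul, h.pp]
    module
  rw [h1, det_one_add_mul_comm, h2, det_smul, det_one, mul_one, Fintype.card_fin]

theorem expand (h : Bas a b ω P R) (hu : UH a b ω) {T : Matrix (Fin n) (Fin 3) F} (hT : Itw a b ω T) :
    ∃ s t : F, T = s • P + t • R := by
  obtain ⟨s, hs⟩ := hu.inner hT h.hP
  obtain ⟨t, ht⟩ := hu.inner hT h.hR
  refine ⟨s, t, ?_⟩
  calc T = (P * Pᴴ + R * Rᴴ) * T := by rw [h.tot, Matrix.one_mul]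
    _ = _ := by simp [Matrix.add_mul, Matrix.mul_assoc, hs, ht]

theorem gram (h : Bas a b ω P R) (s t s' t' : F) :
    (s • P + t • R)ᴴ * (s' • P + t' • R) = (star s * s' + star t * t') • (1 : Matrix (Fin 3) (Fin 3) F) := by
  simp only [conjTranspose_add, conjTranspose_smul, Matrix.add_mul, Matrix.mul_add, Matrix.smul_mul,
    Matrix.mul_smul, h.pp, h.rr, h.pr, h.rp]
  module

/-- the unitary elements of order three of the centralizer are diagonal -/
theorem diag (h : Bas a b ω P R) (hu : UH a b ω) (h4 : F4 F) {k : Matrix (Fin n) (Fin n) F}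
    (ha : a * k = k * a) (hb : b * k = k * b) (uk : kᴴ * k = 1) (k3 : k ^ 3 = 1) :
    ∃ s t : F, s ≠ 0 ∧ t ≠ 0 ∧ k = dg P R s t := by
  obtain ⟨α, β, h1⟩ := h.expand hu (h.hP.mul ha hb)
  obtain ⟨γ, δ, h2⟩ := h.expand hu (h.hR.mul ha hb)
  have key : ∀ S T : Matrix (Fin n) (Fin 3) F, (k * S)ᴴ * (k * T) = Sᴴ * T := fun S T => by
    rw [conjTranspose_mul, Matrix.mul_assoc, ← Matrix.mul_assoc kᴴ, uk, Matrix.one_mul]
  have e1 := congrFun (congrFun (key P P) 0) 0
  have e2 := congrFun (congrFun (key R R) 0) 0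
  have e3 := congrFun (congrFun (key P R) 0) 0
  rw [h1, h.gram, h.pp] at e1
  rw [h2, h.gram, h.rr] at e2
  rw [h1, h2, h.gram, h.pr] at e3
  simp only [Matrix.smul_apply, one_apply_eq, smul_eq_mul, mul_one, Matrix.zero_apply] at e1 e2 e3
  by_cases hα : α = 0
  · exfalso
    subst hα
    have hβ : star β ≠ 0 := fun hz => by simp [hz] at e1
    have hδ : δ = 0 := by simpa [hβ] using e3
    subst hδ
    have h5 : k ^ 3 * P = (β * γ * β) • R := by
      rw [pow_succ, pow_two, Matrix.mul_assoc, Matrix.mul_assoc, h1]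
      simp [h1, h2, smul_smul]
    have h6 := congrArg (fun T => (Pᴴ * T) 0 0) h5
    simp [k3, h.pp, h.pr] at h6
  · have hβ : β = 0 := by
      by_contra hβ
      rw [h4.norm hα, h4.norm hβ] at e1
      exact one_ne_zero (by linear_combination e1 : (1 : F) = 0)
    subst hβ
    have hγ : γ = 0 := by simpa [hα] using e3
    subst hγ
    refine ⟨α, δ, hα, fun hz => by simp [hz] at e2, h.ext ?_ ?_⟩
    · rw [h1, h.dg_P, zero_smul, add_zero]
    · rw [h2, h.dg_R, zero_smul, zero_add]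

end Bas

/-- **`U₆(2)`** -/
theorem not_surv_six {F : Type} [Field F] [Fintype F] (hF : Fintype.card F = 2 ^ 2)
    {A : Subgroup (MulAut (PSU 6 F 2))} {Q : Subgroup (PSU 6 F 2)} (hP : Pure 3 _ A Q) : ¬ SurvU 6 F 2 Q := by
  rintro ⟨a, b, ω, hH, -, -, -, rfl⟩
  let _ := starR hF
  have hs : ∀ x : F, star x = x ^ 2 := fun _ => rfl
  have h4 : F4 F := ⟨?_, fun x hx => ?_, hs⟩
  rotate_left
  · have := HermBasic.add_pow_q hF 1 1
    linear_combination this
  · simpa [hF] using FiniteField.pow_card_sub_one_eq_one x hx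
  have w0 : ω ≠ 0 := hH.prim.ne_zero (by norm_num)
  have hu : UH (mt a) (mt b) ω := ⟨hH, star_mul_mt hs a, star_mul_mt hs b, by rw [mul_comm, h4.norm w0]⟩
  obtain ⟨P, R, i1, i2, i3, i4, i5, i6, i7⟩ := hu.basis h4
  have hB : Bas (mt a) (mt b) ω P R := ⟨i1, i2, i3, i4, i5, i6, i7⟩
  let y : SU 6 F 2 := mkSU hs (dg P R ω 1) (by rw [hB.det_dg, hH.prim.pow_eq_one])
    (by rw [Bas.dg_star, hB.dg_mul, h4.norm w0, star_one, one_mul, hB.dg_one])
  have hy : mt y = dg P R ω 1 := rfl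
  have y3 : y ^ 3 = 1 := mt_inj (by rw [map_pow, hy, hB.dg_pow, hH.prim.pow_eq_one, one_pow, hB.dg_one, map_one])
  have cent : ∀ N : Matrix (Fin 6) (Fin 6) F, mt a * N = N * mt a → mt b * N = N * mt b → ∀ x : SU 6 F 2,
      (QuotientGroup.mk x : PSU 6 F 2) ∈ Subgroup.closure {(QuotientGroup.mk a : PSU 6 F 2), QuotientGroup.mk b} →
      mt x * N = N * mt x := fun N ha hb x hx =>
    ((Subalgebra.mem_centralizer_iff F).1 (mt_mem_of_mk_mem hF (by norm_num) (Subalgebra.centralizer F {N})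
      ((Subalgebra.mem_centralizer_iff F).2 fun _ hg => hg ▸ ha.symm)
      ((Subalgebra.mem_centralizer_iff F).2 fun _ hg => hg ▸ hb.symm) hx) N rfl).symm
  have cy := cent (mt y)
    (by rw [hy, dg, mul_add, add_mul]; simp only [mul_smul_comm, smul_mul_assoc, (hu.outer i1 i1).1, (hu.outer i2 i2).1])
    (by rw [hy, dg, mul_add, add_mul]; simp only [mul_smul_comm, smul_mul_assoc, (hu.outer i1 i1).2, (hu.outer i2 i2).2])
  set Q : Subgroup (PSU 6 F 2) := Subgroup.closure {(QuotientGroup.mk a : PSU 6 F 2), QuotientGroup.mk b} with hQ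
  let π : SU 6 F 2 →* PSU 6 F 2 := QuotientGroup.mk' _
  have hπ : ∀ x, π x = QuotientGroup.mk x := fun _ => rfl
  have hYN : Subgroup.zpowers (π y) ≤ Subgroup.normalizer (Q : Set (PSU 6 F 2)) := by
    rw [Subgroup.zpowers_le]
    refine Subgroup.centralizer_le_normalizer _ (Subgroup.mem_centralizer_iff.2 fun x hx => ?_)
    obtain ⟨x, rfl⟩ := QuotientGroup.mk'_surjective _ x
    rw [← map_mul, ← map_mul, show x * y = y * x from mt_inj (by rw [map_mul, map_mul, cy x hx])]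
  have hY : IsPGroup 3 (Subgroup.zpowers (π y)) :=
    BHZ.Nil.isPGroup_zpowers_of_pow (n := 1) (by rw [pow_one, ← map_pow, y3, map_one])
  have hE := hP.rad (Q ⊔ Subgroup.zpowers (π y)) (hP.pg.to_sup_of_normal_left' hY hYN) le_sup_left ?_
    (sup_le Subgroup.le_normalizer hYN)
  · have h1 : π y ∈ Q := hE ▸ Subgroup.mem_sup_right (Subgroup.mem_zpowers _)
    have h2 := congrArg (fun T => (Pᴴ * (T * R)) 0 0) (cent _ (hu.outer i1 i2).1 (hu.outer i1 i2).2 y h1)
    simp only [hy, Matrix.mul_assoc, hB.dg_R, one_smul, i4, Matrix.mul_one, hB.dg_P, Matrix.mul_smul, i3] at h2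
    exact hH.prim.ne_one (by norm_num) (by simpa using h2)
  · intro t ht
    refine Subgroup.normalizer_inf_normalizer_le_normalizer_sup _ _ ⟨ht, ?_⟩
    obtain ⟨t, rfl⟩ := QuotientGroup.mk'_surjective _ t
    have h1 : ∀ x : SU 6 F 2, π x ∈ Q → mt x * mt (t * y * t⁻¹) = mt (t * y * t⁻¹) * mt x := fun x hx => by
      have h2 : π (t⁻¹ * x * t) ∈ Q := by
        have := (Subgroup.mem_normalizer_iff.1 (inv_mem ht) (π x)).1 hx
        simpa [hπ] using this
      have h3 : t⁻¹ * x * t * y = y * (t⁻¹ * x * t) := mt_inj (by rw [map_mul, cy _ h2, map_mul mt y])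
      rw [← map_mul, ← map_mul]
      congr 1
      calc x * (t * y * t⁻¹) = t * (t⁻¹ * x * t * y) * t⁻¹ := by group
        _ = _ := by rw [h3]; group
    obtain ⟨s, u, hs0, hu0, hk⟩ := hB.diag hu h4 (h1 a (Subgroup.subset_closure (by simp [hπ])))
      (h1 b (Subgroup.subset_closure (by simp [hπ]))) (star_mul_mt hs _)
      (by rw [← map_pow, conj_pow, y3, mul_one, mul_inv_cancel, map_one])
    obtain ⟨m, -, hm⟩ := hH.prim.eq_pow_of_pow_eq_one (h4.cube (s / u) (div_ne_zero hs0 hu0))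
    have h5 : π (t * y * t⁻¹) = π (y ^ m) := mk_eq_of_smul (c := u) (by
      rw [hk, map_pow, hy, hB.dg_pow, hm, dg, dg, smul_add, smul_smul, smul_smul, mul_div_cancel₀ _ hu0, one_pow,
        mul_one])
    refine Subgroup.mem_normalizer_fintype ?_
    rintro _ ⟨j, rfl⟩
    refine ⟨m * j, ?_⟩
    change π y ^ ((m : ℤ) * j) = π t * π y ^ j * (π t)⁻¹
    rw [← conj_zpow, ← map_inv, ← map_mul, ← map_mul, h5, map_pow, _root_.zpow_mul, zpow_natCast]

end Cfsg.Agent.TO.U2
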