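import Cfsg.Agent.TO.Cl
import Cfsg.Agent.LieClassical.HermBasic
import Cfsg.Agent.LieClassical.SUBasic

/-!
# S4817, box U2: the unitary groups through the star operation
-/

set_option autoImplicit false
set_option linter.unusedSectionVars false

namespace Cfsg.Agent.TO.U2

open Cfsg Matrix Cfsg.Agent.LieClassical

/-- the star operation `x ↦ x ^ q` -/
abbrev starR {F : Type} [Field F] [Fintype F] {q : ℕ} (hF : Fintype.card F = q ^ 2) : StarRing F where
  star x := x ^ q
  star_involutive := HermBasic.pow_q_pow_q hF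
  star_mul x y := by rw [mul_pow, mul_comm]
  star_add := HermBasic.add_pow_q hF

section Plain

variable {F : Type} [Field F] {n q : ℕ}

/-- the matrix of an element of `SU` -/
def mt : SU n F q →* Matrix (Fin n) (Fin n) F where
  toFun g := g.1.1
  map_one' := rfl
  map_mul' _ _ := rfl

theorem mt_apply (g : SU n F q) : mt g = g.1.1 := rfl

theorem mt_inj : Function.Injective (mt : SU n F q → Matrix (Fin n) (Fin n) F) :=
  fun _ _ h => Subtype.ext (Subtype.ext h)

theorem det_mt (g : SU n F q) : (mt g).det = 1 := g.1.2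

theorem center_of_smul {g : SU n F q} {c : F} (h : mt g = c • (1 : Matrix (Fin n) (Fin n) F)) :
    g ∈ Subgroup.center (SU n F q) :=
  Subgroup.mem_center_iff.2 fun x => mt_inj (by
    rw [map_mul, map_mul, h, Matrix.mul_smul, Matrix.smul_mul, mul_one, one_mul])

theorem smul_of_center [Fintype F] (hF : Fintype.card F = q ^ 2) (hn : 3 ≤ n) {g : SU n F q}
    (h : g ∈ Subgroup.center (SU n F q)) : ∃ c : F, mt g = c • (1 : Matrix (Fin n) (Fin n) F) := by
  obtain ⟨c, h1, h2, rfl⟩ := (SUBasic.mem_center_SU_iff hF hn g).1 h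
  exact ⟨c, by rw [smul_one_eq_diagonal]; rfl⟩

/-- equality in the quotient from proportional matrices -/
theorem mk_eq_of_smul {g h : SU n F q} {c : F} (e : mt g = c • mt h) :
    (QuotientGroup.mk g : PSU n F q) = QuotientGroup.mk h := by
  refine (QuotientGroup.eq.2 (center_of_smul (c := c) ?_)).symm
  rw [map_mul, e, Matrix.mul_smul, ← map_mul, inv_mul_cancel, map_one]

theorem smul_of_mk_eq [Fintype F] (hF : Fintype.card F = q ^ 2) (hn : 3 ≤ n) {g h : SU n F q}
    (e : (QuotientGroup.mk g : PSU n F q) = QuotientGroup.mk h) : ∃ c : F, mt g = c • mt h := by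
  obtain ⟨c, hc⟩ := smul_of_center hF hn (QuotientGroup.eq.1 e.symm)
  refine ⟨c, ?_⟩
  have : g = h * (h⁻¹ * g) := by group
  rw [this, map_mul, hc, Matrix.mul_smul, mul_one]

/-- the elements of `SU` with matrix in a subalgebra -/
def subOf [Finite F] (q : ℕ) (S : Subalgebra F (Matrix (Fin n) (Fin n) F)) : Subgroup (SU n F q) where
  carrier := {g | mt g ∈ S}
  one_mem' := by
    change mt 1 ∈ S
    rw [map_one]
    exact one_mem S
  mul_mem' := fun {g h} hg hh => by
    change mt (g * h) ∈ S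
    rw [map_mul]
    exact mul_mem hg hh
  inv_mem' := fun {g} hg => by
    change mt g⁻¹ ∈ S
    have h1 : g⁻¹ = g ^ (orderOf g - 1) := by
      rw [inv_eq_iff_mul_eq_one, ← pow_succ', Nat.sub_add_cancel (orderOf_pos g), pow_orderOf_eq_one]
    rw [h1, map_pow]
    exact pow_mem hg _

theorem mem_subOf [Finite F] {S : Subalgebra F (Matrix (Fin n) (Fin n) F)} {g : SU n F q} :
    g ∈ subOf q S ↔ mt g ∈ S := Iff.rfl

/-- A subalgebra which contains `a` and `b` contains every element over `⟨ā, b̄⟩`. -/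
theorem mt_mem_of_mk_mem [Fintype F] (hF : Fintype.card F = q ^ 2) (hn : 3 ≤ n) {a b : SU n F q}
    (S : Subalgebra F (Matrix (Fin n) (Fin n) F)) (ha : mt a ∈ S) (hb : mt b ∈ S) {x : SU n F q}
    (hx : (QuotientGroup.mk x : PSU n F q) ∈
      Subgroup.closure {(QuotientGroup.mk a : PSU n F q), QuotientGroup.mk b}) : mt x ∈ S := by
  have h1 : Subgroup.closure {(QuotientGroup.mk a : PSU n F q), QuotientGroup.mk b} ≤
      (subOf q S).map (QuotientGroup.mk' _) := by
    rw [Subgroup.closure_le]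
    rintro _ (rfl | rfl)
    · exact ⟨a, ha, rfl⟩
    · exact ⟨b, hb, rfl⟩
  obtain ⟨y, hy, hxy⟩ := h1 hx
  obtain ⟨c, hc⟩ := smul_of_mk_eq hF hn (g := x) (h := y) hxy.symm
  rw [hc]
  exact S.smul_mem hy c

end Plain

variable {F : Type} [Field F] [StarRing F] {n q : ℕ}

theorem herm_eq (hs : ∀ x : F, star x = x ^ q) (u v : Fin n → F) : hermForm n F q u v = u ⬝ᵥ star v := by
  simp only [hermForm, dotProduct, Pi.star_apply, hs]

theorem dot_adj (A : Matrix (Fin n) (Fin n) F) (u v : Fin n → F) :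
    u ⬝ᵥ star (A *ᵥ v) = (Aᴴ *ᵥ u) ⬝ᵥ star v := by
  rw [star_mulVec, dotProduct_comm, ← dotProduct_mulVec, dotProduct_comm]

theorem eq_of_dot {A B : Matrix (Fin n) (Fin n) F} (h : ∀ u v, (A *ᵥ u) ⬝ᵥ star v = (B *ᵥ u) ⬝ᵥ star v) :
    A = B := by
  ext i j
  simpa [dotProduct, Pi.single_apply, apply_ite (star : F → F)] using h (Pi.single j 1) (Pi.single i 1)

theorem mem_SU (hs : ∀ x : F, star x = x ^ q) (g : SpecialLinearGroup (Fin n) F) :
    g ∈ SU n F q ↔ g.1ᴴ * g.1 = 1 := by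
  rw [HermBasic.mem_SU_iff]
  simp only [herm_eq hs, dot_adj, mulVec_mulVec]
  exact ⟨fun h => eq_of_dot fun u v => by rw [h, one_mulVec], fun h u v => by rw [h, one_mulVec]⟩

theorem star_mul_mt (hs : ∀ x : F, star x = x ^ q) (g : SU n F q) : (mt g)ᴴ * mt g = 1 :=
  (mem_SU hs g.1).1 g.2

theorem mt_mul_star (hs : ∀ x : F, star x = x ^ q) (g : SU n F q) : mt g * (mt g)ᴴ = 1 :=
  mul_eq_one_comm.1 (star_mul_mt hs g)

/-- an element of `SU` from its matrix -/
def mkSU (hs : ∀ x : F, star x = x ^ q) (A : Matrix (Fin n) (Fin n) F) (hd : A.det = 1) (hu : Aᴴ * A = 1) :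
    SU n F q := ⟨⟨A, hd⟩, (mem_SU hs _).2 hu⟩

theorem mt_mkSU (hs : ∀ x : F, star x = x ^ q) (A : Matrix (Fin n) (Fin n) F) (hd : A.det = 1)
    (hu : Aᴴ * A = 1) : mt (mkSU hs A hd hu) = A := rfl

end Cfsg.Agent.TO.U2
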